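set_option autoImplicit false
namespace Cfsg.Agent.Lib.Helper6.TCD.L37aL
noncomputable def HL0 (i : Nat) : Nat := Nat.land (Nat.shiftRight 0x731000701000711000721000701000611000611000641000621000601000611000601000511000501000541000541000521000511000501000511000501000541000531000531000521000401000441000431000411000401000441000411000401000431000411000401000441000431000421000401000321000311000321000331000321000311000341000331000321000301000211000201000211000201000141000131000001 (Nat.mul 24 (Nat.land i 1023))) 16777215
end Cfsg.Agent.Lib.Helper6.TCD.L37aL
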