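set_option autoImplicit false
namespace Cfsg.Agent.Lib.Helper6.TCD.L37aL
noncomputable def HL1 (i : Nat) : Nat := Nat.land (Nat.shiftRight 0x721000801000801000921000811000911000611000601000821000721000811000801000811000511000621000401000411000511000501000501000701000711000701000621000321000701000721000611000401000701000811000611000501000301000411000401000601000601000001000201000621000501000621000711000521000511000421000521000321000121000511000511000411000211000421000311000000 (Nat.mul 24 (Nat.land i 1023))) 16777215
end Cfsg.Agent.Lib.Helper6.TCD.L37aL
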