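set_option autoImplicit false
namespace Cfsg.Agent.Lib.Helper6.TCD.L37aL
noncomputable def HL2 (i : Nat) : Nat := Nat.land (Nat.shiftRight 0x411000611000311000000000511000511000421000511000000000711000211000611000411000301000000000601000401000501000611000701000811000121000711000000000501000301000311000201000611000000000401000601000001000701000601000711000801000901000000000601000221000511000000000501000701000101000111000801000701000501000411000211000201000401000311000301000000 (Nat.mul 24 (Nat.land i 1023))) 16777215
end Cfsg.Agent.Lib.Helper6.TCD.L37aL
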