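import Cfsg.Agent.Lib.Helper6.LB1
import Cfsg.Agent.Lib.Helper6.TCD.L37aL.Lv
set_option autoImplicit false
set_option maxRecDepth 1000000
set_option Elab.async false
open Cfsg.Agent.Lib.Helper6.TC
namespace Cfsg.Agent.Lib.Helper6.TCD.L37aL
open Cfsg.Agent.Lib.Helper6.TCD.L37a
theorem chkOrbL3 : chkOrb labL3 rnkL3 mvL3 1 57 = true := by decide +kernel
theorem cntL3 : cntLab labL3 1 57 = 12 := by decide +kernel
theorem fixL3_0_0 : Nat.beq (WL3_0 0) 0 = true := by decide +kernel
theorem fixL3_0_1 : Nat.beq (WL3_0 18) 18 = true := by decide +kernel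
theorem fixL3_0_2 : Nat.beq (WL3_0 24) 24 = true := by decide +kernel
theorem fixL3_1_0 : Nat.beq (WL3_1 0) 0 = true := by decide +kernel
theorem fixL3_1_1 : Nat.beq (WL3_1 18) 18 = true := by decide +kernel
theorem fixL3_1_2 : Nat.beq (WL3_1 24) 24 = true := by decide +kernel
end Cfsg.Agent.Lib.Helper6.TCD.L37aL
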